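import Mathlib
import Cfsg.Agent.Lib.Helper5.ChevFieldMap
import Cfsg.Agent.Lib.Helper5.ChevGroupCard
import Cfsg.Agent.Lib.Helper5.ChevBruhatNF
import Cfsg.Agent.Lib.Helper5.ChevTorusCard
import Cfsg.Agent.Lib.Helper5.ChevTorusKer
import Cfsg.Agent.Lib.Helper5.MatPowKer
import Cfsg.Agent.Lib.Helper5.ChevXInj

set_option autoImplicit false

/-!
Fixed points of a field endomorphism acting entrywise on a Chevalley group: when the torus
`(Fˣ)^l → H` is injective, the fixed points are the Chevalley group of the fixed field.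
-/

namespace Cfsg.Agent.Lib.Helper5.FieldFix

open Cfsg Cfsg.Lie Cfsg.Agent.Lib.Helper5.ChevSym Cfsg.Agent.Lib.Helper5.ChevStruct
  Cfsg.Agent.Lib.Helper5.MatPow

variable {F₀ F : Type*} [Field F₀] [Field F]

/-- the entrywise map on `GL` -/
noncomputable abbrev glM (D : ChevalleyDatum) (f : F₀ →+* F) : GL D.Idx F₀ →* GL D.Idx F :=
  Matrix.GeneralLinearGroup.map f

theorem glM_val (D : ChevalleyDatum) (f : F₀ →+* F) (g : GL D.Idx F₀) :
    ((glM D f g : GL D.Idx F) : Matrix D.Idx D.Idx F) = (g : Matrix D.Idx D.Idx F₀).map f := rfl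

theorem glM_xGL (D : ChevalleyDatum) (hD : D ∈ Seven) (f : F₀ →+* F) (r : ℕ) (t : F₀) :
    glM D f (xGL D hD r t) = xGL D hD r (f t) := by
  apply Units.ext
  rw [glM_val, xGL_val, xGL_val, x_map]

theorem glM_wordGL (D : ChevalleyDatum) (hD : D ∈ Seven) (f : F₀ →+* F) (w : List (ℕ × F₀)) :
    glM D f (wordGL D hD w) = wordGL D hD (w.map fun p => (p.1, f p.2)) := by
  apply Units.ext
  rw [glM_val, wordGL_val, wordGL_val, wordMat_map]

theorem glM_nGL (D : ChevalleyDatum) (hD : D ∈ Seven) (f : F₀ →+* F) (i : ℕ) :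
    glM D f (nGL D hD i) = nGL D hD i := by
  unfold nGL
  rw [glM_wordGL]
  congr 1
  simp [ChevalleyDatum.nWord]

theorem glM_wGL (D : ChevalleyDatum) (hD : D ∈ Seven) (f : F₀ →+* F) (w : List ℕ) :
    glM D f (wGL D hD w) = wGL D hD w := by
  induction w with
  | nil => rw [wGL_nil, wGL_nil, map_one]
  | cons i w ih => rw [wGL_cons, wGL_cons, map_mul, ih, glM_nGL]

theorem glM_rootSetSub (D : ChevalleyDatum) (f : F₀ →+* F) (T : Set ℕ) (g : GL D.Idx F₀)
    (hg : g ∈ rootSetSub D F₀ T) : glM D f g ∈ rootSetSub D F T := by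
  have : rootSetSub D F₀ T ≤ (rootSetSub D F T).comap (glM D f) := by
    unfold rootSetSub
    rw [Subgroup.closure_le]
    rintro x ⟨s, t, hs, hx⟩
    apply Subgroup.subset_closure
    refine ⟨s, f t, hs, ?_⟩
    rw [glM_val, hx, x_map]
  exact this hg

theorem glM_pos (D : ChevalleyDatum) (f : F₀ →+* F) (g : GL D.Idx F₀)
    (hg : g ∈ D.posUnipotent F₀) : glM D f g ∈ D.posUnipotent F := by
  have : D.posUnipotent F₀ ≤ (D.posUnipotent F).comap (glM D f) := by
    unfold ChevalleyDatum.posUnipotent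
    rw [Subgroup.closure_le]
    rintro x ⟨s, t, hs, hx⟩
    apply Subgroup.subset_closure
    refine ⟨s, f t, hs, ?_⟩
    rw [glM_val, hx, x_map]
  exact this hg

theorem hMat_map (D : ChevalleyDatum) (f : F₀ →+* F) (r : ℕ) (t : F₀) :
    (D.hMat F₀ r t).map f = D.hMat F r (f t) := by
  unfold ChevalleyDatum.hMat
  rw [wordMat_map]
  congr 1
  simp [ChevalleyDatum.hWord, ChevalleyDatum.nWord]

theorem glM_diag (D : ChevalleyDatum) (f : F₀ →+* F) (g : GL D.Idx F₀)
    (hg : g ∈ D.diagonalSubgroup F₀) : glM D f g ∈ D.diagonalSubgroup F := by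
  have : D.diagonalSubgroup F₀ ≤ (D.diagonalSubgroup F).comap (glM D f) := by
    unfold ChevalleyDatum.diagonalSubgroup
    rw [Subgroup.closure_le]
    rintro x ⟨s, t, hs, ht, hx⟩
    apply Subgroup.subset_closure
    refine ⟨s, f t, hs, (map_ne_zero f).2 ht, ?_⟩
    rw [glM_val, hx, hMat_map]
  exact this hg

theorem glM_borel (D : ChevalleyDatum) (f : F₀ →+* F) (g : GL D.Idx F₀)
    (hg : g ∈ D.borelSubgroup F₀) : glM D f g ∈ D.borelSubgroup F := by
  have : D.borelSubgroup F₀ ≤ (D.borelSubgroup F).comap (glM D f) := by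
    unfold ChevalleyDatum.borelSubgroup
    apply sup_le
    · intro x hx
      exact Subgroup.mem_sup_left (glM_pos D f x hx)
    · intro x hx
      exact Subgroup.mem_sup_right (glM_diag D f x hx)
  exact this hg

theorem glM_group (D : ChevalleyDatum) (f : F₀ →+* F) (g : GL D.Idx F₀)
    (hg : g ∈ D.group F₀) : glM D f g ∈ D.group F :=
  map_group_le D f ⟨g, hg, rfl⟩

theorem glM_injective (D : ChevalleyDatum) (f : F₀ →+* F) : Function.Injective (glM D f) := by
  intro a b h
  apply Units.ext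
  have h' := congrArg (fun g : GL D.Idx F => (g : Matrix D.Idx D.Idx F)) h
  simp only [glM_val] at h'
  ext i j
  have := congrFun (congrFun h' i) j
  simp only [Matrix.map_apply] at this
  exact f.injective this

/-- the torus homomorphism commutes with field maps -/
theorem glM_torHom (D : ChevalleyDatum) (f : F₀ →+* F) (c : Fin D.rank → F₀ˣ) :
    glM D f (torHom D F₀ c) = torHom D F (fun i => Units.map (f : F₀ →* F) (c i)) := by
  apply Units.ext
  rw [glM_val, torHom_val, torHom_val]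
  unfold torusMat
  rw [Matrix.diagonal_map (map_zero f)]
  congr 1
  funext j
  rcases j with j | s
  · simp
  · simp only [Sum.elim_inr]
    unfold chi
    rw [map_list_prod, List.map_map]
    congr 1
    apply List.map_congr_left
    intro i hi
    rw [List.mem_range] at hi
    simp only [Function.comp_apply]
    rw [map_zpow₀, extU_of_lt D _ i hi, extU_of_lt D _ i hi]
    rfl

/-- `(Fˣ)^l → H` is injective for the types `G₂`, `F₄`, `E₈` -/
theorem torHom_inj_unimod (D : ChevalleyDatum) (hD : D ∈ [chevG2, chevF4, chevE8])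
    (c : Fin D.rank → Fˣ) (h : torHom D F c = 1) : c = 1 := by
  have hD7 : D ∈ Seven := by
    simp only [List.mem_cons, List.not_mem_nil, or_false] at hD
    rcases hD with rfl | rfl | rfl <;> simp [Seven]
  have hk : c ∈ (mpow (fmat (cartanFn D) D.rank) :
      (Fin D.rank → Fˣ) →* (Fin D.rank → Fˣ)).ker :=
    (mem_ker_torHom_iff D hD7 c).1 (MonoidHom.mem_ker.2 h)
  have key : c ^ 1 = 1 := by
    simp only [List.mem_cons, List.not_mem_nil, or_false] at hD
    rcases hD with rfl | rfl | rfl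
    · exact ker_mpow_pow_eq_one chevG2.rank (cartanFn chevG2) smPG2 smP'G2 smQG2 smQ'G2 [1, 1]
        (by decide +kernel) (by decide +kernel) (by decide +kernel) 1
        (by intro j hj; have : j < 2 := hj; interval_cases j <;> decide) c hk
    · exact ker_mpow_pow_eq_one chevF4.rank (cartanFn chevF4) smPF4 smP'F4 smQF4 smQ'F4
        [1, 1, 1, 1]
        (by decide +kernel) (by decide +kernel) (by decide +kernel) 1
        (by intro j hj; have : j < 4 := hj; interval_cases j <;> decide) c hk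
    · exact ker_mpow_pow_eq_one chevE8.rank (cartanFn chevE8) smPE8 smP'E8 smQE8 smQ'E8
        [1, 1, 1, 1, 1, 1, 1, 1]
        (by decide +kernel) (by decide +kernel) (by decide +kernel) 1
        (by intro j hj; have : j < 8 := hj; interval_cases j <;> decide) c hk
  rwa [pow_one] at key

/-- `t ↦ x_a(t)` is injective -/
theorem x_inj_param (D : ChevalleyDatum) (hD : D ∈ Seven) (a : ℕ) (ha : a < D.nroots) (t u : F)
    (h : D.x F a t = D.x F a u) : t = u := by
  obtain ⟨-, hna, hnea, -⟩ := checkCoPrim_spec D (chkCoPrim_all D hD) a ha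
  obtain ⟨i, hi, hci⟩ := exists_coroot_ne_zero (F := F) D hD a ha
  unfold ChevalleyDatum.x at h
  rw [dif_pos ha, dif_pos ha] at h
  have h1 := xMat_inl_neg D ⟨a, ha⟩ ⟨D.neg a, hna⟩ rfl
    (fun e => hnea (congrArg Fin.val e)) t ⟨i, hi⟩
  have h2 := xMat_inl_neg D ⟨a, ha⟩ ⟨D.neg a, hna⟩ rfl
    (fun e => hnea (congrArg Fin.val e)) u ⟨i, hi⟩
  rw [h, h2] at h1
  exact (mul_left_cancel₀ hci h1).symm

section Fixed

variable (D : ChevalleyDatum) (hD : D ∈ Seven) (ι : F₀ →+* F) (σ : F →+* F)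
  (hfix : ∀ x : F, σ x = x → ∃ y : F₀, ι y = x)

include hD hfix

/-- fixed elements of `U` come from the fixed field -/
theorem pos_fixed (u : GL D.Idx F) (hu : u ∈ D.posUnipotent F) (hσ : glM D σ u = u) :
    ∃ u₀ ∈ D.group F₀, glM D ι u₀ = u := by
  obtain ⟨t, ⟨ht0, hut⟩, huniq⟩ := (pos_unique_product (F := F) D hD).1 u hu
  have h1 : (u : Matrix D.Idx D.Idx F)
      = D.wordMat F (D.posRoots.map fun r => (r, σ (t r))) := by
    have := congrArg (fun g : GL D.Idx F => (g : Matrix D.Idx D.Idx F)) hσ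
    simp only [glM_val] at this
    rw [← this, hut, wordMat_map, List.map_map]
    rfl
  have h2 := huniq (fun r => σ (t r)) ⟨fun r hr => by show σ (t r) = 0; rw [ht0 r hr, map_zero], h1⟩
  have h3 : ∀ r, ∃ y : F₀, ι y = t r := fun r => hfix (t r) (congrFun h2 r)
  choose t₀ ht₀ using h3
  refine ⟨wordGL D hD (D.posRoots.map fun r => (r, t₀ r)), wordGL_mem_group D hD _, ?_⟩
  apply Units.ext
  rw [glM_wordGL, wordGL_val, hut, List.map_map]
  congr 1
  apply List.map_congr_left
  intro r _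
  simp only [Function.comp_apply, ht₀]

/-- fixed elements of `H` come from the fixed field when the torus is injective -/
theorem diag_fixed (hinj : ∀ c : Fin D.rank → Fˣ, torHom D F c = 1 → c = 1)
    (h : GL D.Idx F) (hh : h ∈ D.diagonalSubgroup F) (hσ : glM D σ h = h) :
    ∃ h₀ ∈ D.group F₀, glM D ι h₀ = h := by
  rw [← torHom_range D hD] at hh
  obtain ⟨c, rfl⟩ := hh
  rw [glM_torHom] at hσ
  have h1 : torHom D F ((fun i => Units.map (σ : F →* F) (c i)) * c⁻¹) = 1 := by
    rw [map_mul, hσ, map_inv, mul_inv_cancel]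
  have h2 := hinj _ h1
  have h3 : ∀ i, ∃ y : F₀, ι y = ((c i : Fˣ) : F) := by
    intro i
    apply hfix
    have := congrFun h2 i
    simp only [Pi.mul_apply, Pi.inv_apply, Pi.one_apply, mul_inv_eq_one] at this
    have h4 := congrArg Units.val this
    simpa using h4
  choose c₀ hc₀ using h3
  have hc₀ne : ∀ i, c₀ i ≠ 0 := by
    intro i h0
    have := hc₀ i
    rw [h0, map_zero] at this
    exact (c i).ne_zero this.symm
  refine ⟨torHom D F₀ (fun i => Units.mk0 (c₀ i) (hc₀ne i)), ?_, ?_⟩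
  · apply borel_le_group D hD
    apply diagonal_le_borel D
    rw [← torHom_range D hD]
    exact ⟨_, rfl⟩
  · rw [glM_torHom]
    congr 1
    funext i
    apply Units.ext
    simp [hc₀]

/-- fixed elements of the group come from the fixed field -/
theorem group_fixed (hinj : ∀ c : Fin D.rank → Fˣ, torHom D F c = 1 → c = 1)
    (g : GL D.Idx F) (hg : g ∈ D.group F) (hσ : glM D σ g = g) :
    ∃ g₀ ∈ D.group F₀, glM D ι g₀ = g := by
  obtain ⟨w, hw, b, hb, v, hv, rfl⟩ := bruhat_exists_word D hD g hg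
  have hwN := wGL_mem (F := F) D hD w hw
  rw [map_mul, map_mul, glM_wGL] at hσ
  have hSb : glM D σ b ∈ D.borelSubgroup F := glM_borel D σ b hb
  have hSv : glM D σ v ∈ unegSub D F w := glM_rootSetSub D σ _ v hv
  have huq := (bruhat_unique D hD (glM D σ b) b (wGL D hD w) (wGL D hD w) (glM D σ v) v hSb hb hwN hwN
    (unegSub_le_unegOf D hD w hw hSv) (unegSub_le_unegOf D hD w hw hv) hσ).2 rfl
  obtain ⟨hb1, hv1⟩ := huq
  -- `b = u h`
  have hb' : b ∈ ((D.posUnipotent F ⊔ D.diagonalSubgroup F : Subgroup (GL D.Idx F)) :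
      Set (GL D.Idx F)) := hb
  rw [Subgroup.coe_mul_of_right_le_normalizer_left _ _ (diagonal_le_normalizer_pos D hD)] at hb'
  obtain ⟨u, hu, h, hh, rfl⟩ := Set.mem_mul.1 hb'
  rw [map_mul] at hb1
  have hSu : glM D σ u ∈ D.posUnipotent F := glM_pos D σ u hu
  have hSh : glM D σ h ∈ D.diagonalSubgroup F := glM_diag D σ h hh
  have e : u⁻¹ * glM D σ u = h * (glM D σ h)⁻¹ := by
    have : glM D σ u = u * h * (glM D σ h)⁻¹ := by
      rw [← hb1]; group
    rw [this]; group
  have h4 : u⁻¹ * glM D σ u ∈ D.posUnipotent F ⊓ D.diagonalSubgroup F :=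
    ⟨(D.posUnipotent F).mul_mem ((D.posUnipotent F).inv_mem hu) hSu, by
      rw [e]
      exact (D.diagonalSubgroup F).mul_mem hh ((D.diagonalSubgroup F).inv_mem hSh)⟩
  rw [pos_inf_diagonal D hD, Subgroup.mem_bot] at h4
  have hu1 : glM D σ u = u := by
    have := congrArg (fun y => u * y) h4
    simpa using this
  have hh1 : glM D σ h = h := by
    rw [hu1] at hb1
    exact mul_left_cancel hb1
  obtain ⟨u₀, hu₀, eu⟩ := pos_fixed D hD ι σ hfix u hu hu1
  obtain ⟨h₀, hh₀, eh⟩ := diag_fixed D hD ι σ hfix hinj h hh hh1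
  obtain ⟨v₀, hv₀, ev⟩ := pos_fixed D hD ι σ hfix v
    (unegOf_le_pos D _ (unegSub_le_unegOf D hD w hw hv)) hv1
  refine ⟨u₀ * h₀ * wGL D hD w * v₀, ?_, ?_⟩
  · exact mul_mem (mul_mem (mul_mem hu₀ hh₀) (monomial_le_group D hD (wGL_mem D hD w hw))) hv₀
  · rw [map_mul, map_mul, map_mul, eu, eh, ev, glM_wGL]

end Fixed

end Cfsg.Agent.Lib.Helper5.FieldFix
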